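import Mathlib
import Cfsg.Prelude.Def_LieRecognition
import Cfsg.Agent.Lib.Helper87.LinPoly

set_option autoImplicit false

/-!
# Higman's theorem on Suzuki 2-groups: interface definitions (lemma server HIG, helper1)

`SuzNF P`   : normal form of a Suzuki 2-group (`Z = center P` elementary abelian of order `2 ^ n`
           = set of `x` with `x * x = 1`; `ξ` of order `2 ^ n - 1`, all non-trivial powers
           fixed-point-free, transitive on `Z \ 1`).  Non-commutativity is NOT part of it.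
`Cfg S`  : the configuration `M` produced by a counterexample to `P' ≤ Z`.
`FMap S C F` : coordinates `e : Z ≃ F` and the maps `f y : F → F`, `f y (e (m²)) = e ⁅m, y⁆`.
-/

namespace Cfsg.Agent.Helper1.Hig

open scoped commutatorElement

/-- normal form of a Suzuki 2-group (without non-commutativity) -/
structure SuzNF (P : Type*) [Group P] where
  n : ℕ
  ξ : MulAut P
  hn : 2 ≤ n
  fin : Finite P
  two : IsPGroup 2 P
  card_center : Nat.card (Subgroup.center P) = 2 ^ n
  sq_one_iff : ∀ x : P, x * x = 1 ↔ x ∈ Subgroup.center P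
  order_ξ : orderOf ξ = 2 ^ n - 1
  fpf : ∀ i : ℕ, 0 < i → i < 2 ^ n - 1 → ∀ x : P, (ξ ^ i) x = x → x = 1
  trans : ∀ z z' : P, z ∈ Subgroup.center P → z' ∈ Subgroup.center P → z ≠ 1 → z' ≠ 1 →
    ∃ i : ℕ, (ξ ^ i) z = z'

/-- the configuration extracted from a counterexample to `P' ≤ Z(P)` -/
structure Cfg {P : Type*} [Group P] (S : SuzNF P) where
  M : Subgroup P
  center_le : Subgroup.center P ≤ M
  ξ_mem : ∀ m ∈ M, S.ξ m ∈ M
  sq_mem : ∀ m ∈ M, m * m ∈ Subgroup.center P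
  comm_mem : ∀ m ∈ M, ∀ g : P, ⁅m, g⁆ ∈ Subgroup.center P
  sq_surj : ∀ z ∈ Subgroup.center P, ∃ m ∈ M, m * m = z
  le_cent : M ≤ Subgroup.centralizer (M : Set P)
  cent_comm : ∀ a ∈ Subgroup.centralizer (M : Set P), ∀ b ∈ Subgroup.centralizer (M : Set P),
    a * b = b * a
  sq_mem_cent : ∀ g : P, g * g ∈ Subgroup.centralizer (M : Set P)
  comm_mem_cent : ∀ a b : P, ⁅a, b⁆ ∈ Subgroup.centralizer (M : Set P)
  mem_of_pow_four : ∀ c ∈ Subgroup.centralizer (M : Set P), c ^ 4 = 1 → c ∈ M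

/-- coordinates on `Z = center P` and the commutator maps in coordinates -/
structure FMap {P : Type*} [Group P] (S : SuzNF P) (C : Cfg S) (F : Type*) [Field F] where
  lam : F
  e : P → F
  f : P → F → F
  order_lam : orderOf lam = 2 ^ S.n - 1
  e_mul : ∀ z ∈ Subgroup.center P, ∀ z' ∈ Subgroup.center P, e (z * z') = e z + e z'
  e_inj : ∀ z ∈ Subgroup.center P, e z = 0 → z = 1
  e_surj : ∀ x : F, ∃ z ∈ Subgroup.center P, e z = x
  e_ξ : ∀ z ∈ Subgroup.center P, e (S.ξ z) = lam * e z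
  f_spec : ∀ y : P, ∀ m ∈ C.M, f y (e (m * m)) = e ⁅m, y⁆
  f_add : ∀ y : P, ∀ x x' : F, f y (x + x') = f y x + f y x'
  f_mul : ∀ y y' : P, ∀ x : F, f (y * y') x = f y x + f y' x
  f_ξ : ∀ y : P, ∀ x : F, f (S.ξ y) x = lam * f y (lam⁻¹ * x)
  f_eq_zero : ∀ y : P, (∀ x, f y x = 0) ↔ y ∈ Subgroup.centralizer (C.M : Set P)

end Cfsg.Agent.Helper1.Hig
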