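import Mathlib
import Cfsg.Agent.Lib.Helper1.Hig.Defs
import Cfsg.Agent.Lib.Helper49.HigS1

set_option autoImplicit false

/-!
# HIG (D1): the configuration `M` extracted from a counterexample to `P' ≤ Z(P)`
-/

namespace Cfsg.Agent.Helper1.Hig

open scoped commutatorElement

section Basic

variable {P : Type*} [Group P]

theorem d1_comm_mul_right (x y z : P) (hc : ⁅x, z⁆ ∈ Subgroup.center P) :
    ⁅x, y * z⁆ = ⁅x, y⁆ * ⁅x, z⁆ := by
  have h1 := Subgroup.mem_center_iff.mp hc y⁻¹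
  calc ⁅x, y * z⁆ = x * y * x⁻¹ * (⁅x, z⁆ * y⁻¹) := by
        simp only [commutatorElement_def]; group
    _ = x * y * x⁻¹ * (y⁻¹ * ⁅x, z⁆) := by rw [h1]
    _ = ⁅x, y⁆ * ⁅x, z⁆ := by simp only [commutatorElement_def]; group

theorem d1_comm_mul_left (x y z : P) (hc : ⁅y, z⁆ ∈ Subgroup.center P) :
    ⁅x * y, z⁆ = ⁅y, z⁆ * ⁅x, z⁆ := by
  have h1 := Subgroup.mem_center_iff.mp hc x
  calc ⁅x * y, z⁆ = (x * ⁅y, z⁆) * x⁻¹ * ⁅x, z⁆ := by
        simp only [commutatorElement_def]; group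
    _ = (⁅y, z⁆ * x) * x⁻¹ * ⁅x, z⁆ := by rw [h1]
    _ = ⁅y, z⁆ * ⁅x, z⁆ := by group

theorem d1_center_map (φ : MulAut P) {z : P} (hz : z ∈ Subgroup.center P) :
    φ z ∈ Subgroup.center P := by
  rw [Subgroup.mem_center_iff] at hz ⊢
  intro g
  have h := hz (φ⁻¹ g)
  have h2 : φ (φ⁻¹ g * z) = φ (z * φ⁻¹ g) := by rw [h]
  rw [map_mul, map_mul, MulAut.apply_inv_self] at h2
  exact h2

/-- the second centre -/
def W2 (P : Type*) [Group P] : Subgroup P where
  carrier := {w | ∀ g : P, ⁅w, g⁆ ∈ Subgroup.center P}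
  one_mem' := by
    intro g
    rw [commutatorElement_one_left]
    exact Subgroup.one_mem _
  mul_mem' := by
    intro a b ha hb g
    rw [d1_comm_mul_left a b g (hb g)]
    exact Subgroup.mul_mem _ (hb g) (ha g)
  inv_mem' := by
    intro a ha g
    have h1 : ⁅a⁻¹, g⁆ = a⁻¹ * (⁅a, g⁆)⁻¹ * a := by
      simp only [commutatorElement_def]; group
    rw [h1]
    have hc : (⁅a, g⁆)⁻¹ ∈ Subgroup.center P := Subgroup.inv_mem _ (ha g)
    have h2 := Subgroup.mem_center_iff.mp hc a⁻¹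
    rw [h2]
    have : (⁅a, g⁆)⁻¹ * a⁻¹ * a = (⁅a, g⁆)⁻¹ := by group
    rw [this]
    exact hc

theorem mem_W2 {w : P} : w ∈ W2 P ↔ ∀ g : P, ⁅w, g⁆ ∈ Subgroup.center P := Iff.rfl

theorem W2_map (φ : MulAut P) {w : P} (hw : w ∈ W2 P) : φ w ∈ W2 P := by
  intro g
  have h1 : ⁅φ w, g⁆ = φ ⁅w, φ⁻¹ g⁆ := by
    rw [map_commutatorElement, MulAut.apply_inv_self]
  rw [h1]
  exact d1_center_map φ (hw _)

theorem center_le_W2 : Subgroup.center P ≤ W2 P := by
  intro z hz g
  have : ⁅z, g⁆ = 1 := by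
    rw [commutatorElement_eq_one_iff_commute]
    exact (Subgroup.mem_center_iff.mp hz g).symm
  rw [this]
  exact Subgroup.one_mem _

/-- the homomorphism `g ↦ ⁅w, g⁆` into the centre, for `w` in the second centre -/
def commHom (w : P) (hw : w ∈ W2 P) : P →* Subgroup.center P where
  toFun g := ⟨⁅w, g⁆, hw g⟩
  map_one' := Subtype.ext (commutatorElement_one_right w)
  map_mul' := fun g h => Subtype.ext (d1_comm_mul_right w g h (hw h))

theorem commHom_apply (w : P) (hw : w ∈ W2 P) (g : P) : ((commHom w hw g : Subgroup.center P) : P) = ⁅w, g⁆ := rfl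

theorem W2_commute_commutator {w : P} (hw : w ∈ W2 P) (x y : P) : w * ⁅x, y⁆ = ⁅x, y⁆ * w := by
  have h1 : commHom w hw ⁅x, y⁆ = 1 := by
    rw [map_commutatorElement, commutatorElement_eq_one_iff_commute]
    have hc : (commHom w hw x : Subgroup.center P) * commHom w hw y
        = commHom w hw y * commHom w hw x := by
      apply Subtype.ext
      have := (commHom w hw y).2
      rw [Subgroup.coe_mul, Subgroup.coe_mul]
      exact Subgroup.mem_center_iff.mp this _
    exact hc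
  have h2 : ⁅w, ⁅x, y⁆⁆ = 1 := by
    have := congrArg (Subtype.val) h1
    rw [commHom_apply] at this
    exact this
  exact (commutatorElement_eq_one_iff_commute.mp h2).eq

/-- the subgroup `M₀ = {x ∈ Z(W₂) : x² ∈ Z}` -/
def M0 (P : Type*) [Group P] : Subgroup P where
  carrier := {x | x ∈ W2 P ∧ (∀ w ∈ W2 P, x * w = w * x) ∧ x * x ∈ Subgroup.center P}
  one_mem' := ⟨Subgroup.one_mem _, fun w _ => by rw [one_mul, mul_one],
    by rw [one_mul]; exact Subgroup.one_mem _⟩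
  mul_mem' := by
    rintro a b ⟨ha1, ha2, ha3⟩ ⟨hb1, hb2, hb3⟩
    refine ⟨Subgroup.mul_mem _ ha1 hb1, ?_, ?_⟩
    · intro w hw
      rw [mul_assoc, hb2 w hw, ← mul_assoc, ha2 w hw, mul_assoc]
    · have hab : a * b = b * a := ha2 b hb1
      have : a * b * (a * b) = (a * a) * (b * b) := by
        calc a * b * (a * b) = a * (b * a) * b := by group
          _ = a * (a * b) * b := by rw [hab]
          _ = (a * a) * (b * b) := by group
      rw [this]; exact Subgroup.mul_mem _ ha3 hb3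
  inv_mem' := by
    rintro a ⟨ha1, ha2, ha3⟩
    refine ⟨Subgroup.inv_mem _ ha1, ?_, ?_⟩
    · intro w hw
      have := ha2 w hw
      calc a⁻¹ * w = a⁻¹ * (w * a) * a⁻¹ := by group
        _ = a⁻¹ * (a * w) * a⁻¹ := by rw [this]
        _ = w * a⁻¹ := by group
    · have : a⁻¹ * a⁻¹ = (a * a)⁻¹ := by group
      rw [this]; exact Subgroup.inv_mem _ ha3

theorem mem_M0 {x : P} : x ∈ M0 P ↔
    x ∈ W2 P ∧ (∀ w ∈ W2 P, x * w = w * x) ∧ x * x ∈ Subgroup.center P := Iff.rfl

theorem M0_map (φ : MulAut P) {x : P} (hx : x ∈ M0 P) : φ x ∈ M0 P := by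
  obtain ⟨h1, h2, h3⟩ := hx
  refine ⟨W2_map φ h1, ?_, ?_⟩
  · intro w hw
    have hw' : φ⁻¹ w ∈ W2 P := W2_map φ⁻¹ hw
    have := congrArg φ (h2 _ hw')
    rw [map_mul, map_mul, MulAut.apply_inv_self] at this
    exact this
  · rw [← map_mul]
    exact d1_center_map φ h3

theorem center_le_M0 : Subgroup.center P ≤ M0 P := by
  intro z hz
  refine ⟨center_le_W2 hz, fun w _ => (Subgroup.mem_center_iff.mp hz w).symm,
    Subgroup.mul_mem _ hz hz⟩

end Basic

section Main

variable {P : Type*} [Group P]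

/-- an element of `M₀` outside the centre -/
theorem exists_M0_not_center (S : SuzNF P)
    (hna : ∃ a b : P, ⁅a, b⁆ ∉ Subgroup.center P) : ∃ x ∈ M0 P, x ∉ Subgroup.center P := by
  classical
  obtain ⟨a, b, hab⟩ := hna
  have hfin : Finite P := S.fin
  have : Fact (Nat.Prime 2) := ⟨Nat.prime_two⟩
  have hnil : Group.IsNilpotent P := S.two.isNilpotent
  have hex : ∃ j, (⊤ : Subgroup P).lowerCentralSeries j ≤ Subgroup.center P :=
    ⟨Group.nilpotencyClass P, by rw [Subgroup.lowerCentralSeries_nilpotencyClass]; exact bot_le⟩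
  set j0 := Nat.find hex with hj0
  have hj0spec : (⊤ : Subgroup P).lowerCentralSeries j0 ≤ Subgroup.center P := Nat.find_spec hex
  have h0 : j0 ≠ 0 := by
    intro h
    rw [h] at hj0spec
    exact hab (hj0spec (Subgroup.mem_top _))
  have h1 : j0 ≠ 1 := by
    intro h
    rw [h] at hj0spec
    apply hab
    apply hj0spec
    rw [Subgroup.lowerCentralSeries_succ]
    exact Subgroup.commutator_mem_commutator (Subgroup.mem_top _) (Subgroup.mem_top _)
  obtain ⟨k, hk⟩ : ∃ k, j0 = k + 2 := ⟨j0 - 2, by omega⟩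
  have hmin : ¬ (⊤ : Subgroup P).lowerCentralSeries (k + 1) ≤ Subgroup.center P :=
    Nat.find_min hex (by omega)
  obtain ⟨a0, ha0, ha0Z⟩ := SetLike.not_le_iff_exists.mp hmin
  rw [hk] at hj0spec
  -- a0 in the second centre
  have ha0W : a0 ∈ W2 P := by
    intro g
    apply hj0spec
    rw [Subgroup.lowerCentralSeries_succ]
    exact Subgroup.commutator_mem_commutator ha0 (Subgroup.mem_top g)
  -- a0 centralises the second centre
  have hL1 : (⊤ : Subgroup P).lowerCentralSeries 1 ≤ Subgroup.centralizer (W2 P : Set P) := by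
    rw [Subgroup.lowerCentralSeries_succ, Subgroup.commutator_le]
    intro x _ y _
    rw [Subgroup.mem_centralizer_iff]
    intro w hw
    exact W2_commute_commutator hw x y
  have ha0C : a0 ∈ Subgroup.centralizer (W2 P : Set P) :=
    hL1 (Subgroup.lowerCentralSeries_antitone _ (by omega : 1 ≤ k + 1) ha0)
  -- powers
  have hexi : ∃ i : ℕ, a0 ^ (2 ^ i) ∈ Subgroup.center P := by
    obtain ⟨i, hi⟩ := S.two a0
    exact ⟨i, by rw [hi]; exact Subgroup.one_mem _⟩
  set i0 := Nat.find hexi with hi0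
  have hi0spec : a0 ^ (2 ^ i0) ∈ Subgroup.center P := Nat.find_spec hexi
  have hi00 : i0 ≠ 0 := by
    intro h
    rw [h, pow_zero, pow_one] at hi0spec
    exact ha0Z hi0spec
  obtain ⟨i1, hi1⟩ : ∃ i1, i0 = i1 + 1 := ⟨i0 - 1, by omega⟩
  have hmin2 : a0 ^ (2 ^ i1) ∉ Subgroup.center P := Nat.find_min hexi (by omega)
  refine ⟨a0 ^ (2 ^ i1), ⟨Subgroup.pow_mem _ ha0W _, ?_, ?_⟩, hmin2⟩
  · intro w hw
    have hc : a0 ^ (2 ^ i1) ∈ Subgroup.centralizer (W2 P : Set P) := Subgroup.pow_mem _ ha0C _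
    exact ((Subgroup.mem_centralizer_iff.mp hc) w hw).symm
  · rw [← pow_add, ← two_mul, ← pow_succ', ← hi1]
    exact hi0spec

theorem exists_cfg' (S : SuzNF P)
    (hna : ∃ a b : P, ⁅a, b⁆ ∉ Subgroup.center P) : Nonempty (Cfg S) := by
  classical
  obtain ⟨x0, hx0M, hx0Z⟩ := exists_M0_not_center S hna
  have hfin : Finite P := S.fin
  -- squares onto the centre
  have hsurj : ∀ z ∈ Subgroup.center P, ∃ m ∈ M0 P, m * m = z := by
    intro z hz
    by_cases hz1 : z = 1
    · exact ⟨1, Subgroup.one_mem _, by rw [hz1, one_mul]⟩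
    · have hz0 : x0 * x0 ∈ Subgroup.center P := hx0M.2.2
      have hz01 : x0 * x0 ≠ 1 := fun h => hx0Z ((S.sq_one_iff x0).mp h)
      obtain ⟨i, hi⟩ := S.trans (x0 * x0) z hz0 hz hz01 hz1
      exact ⟨(S.ξ ^ i) x0, M0_map _ hx0M, by rw [← map_mul, hi]⟩
  have hle : M0 P ≤ Subgroup.centralizer (M0 P : Set P) := by
    intro x hx
    rw [Subgroup.mem_centralizer_iff]
    intro m hm
    exact (hx.2.1 m hm.1).symm
  have hsqc : ∀ g : P, g * g ∈ Subgroup.centralizer (M0 P : Set P) := by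
    intro g
    rw [Subgroup.mem_centralizer_iff]
    intro m hm
    have h1 : ⁅m, g * g⁆ = ⁅m, g⁆ * ⁅m, g⁆ := d1_comm_mul_right m g g (hm.1 g)
    have h2 : ⁅m, g * g⁆ = 1 := by rw [h1]; exact (S.sq_one_iff _).mpr (hm.1 g)
    exact (commutatorElement_eq_one_iff_commute.mp h2).eq
  have hcc : ∀ a b : P, ⁅a, b⁆ ∈ Subgroup.centralizer (M0 P : Set P) := by
    intro a b
    rw [Subgroup.mem_centralizer_iff]
    intro m hm
    exact W2_commute_commutator hm.1 a b
  have hξC : ∀ x ∈ Subgroup.centralizer (M0 P : Set P),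
      S.ξ x ∈ Subgroup.centralizer (M0 P : Set P) := by
    intro x hx
    rw [Subgroup.mem_centralizer_iff] at hx ⊢
    intro m hm
    have hm' : S.ξ⁻¹ m ∈ M0 P := M0_map _ hm
    have := congrArg S.ξ (hx _ hm')
    rw [map_mul, map_mul, MulAut.apply_inv_self] at this
    exact this
  have hcomm : ∀ a ∈ Subgroup.centralizer (M0 P : Set P),
      ∀ b ∈ Subgroup.centralizer (M0 P : Set P), a * b = b * a := by
    by_contra hcon
    push Not at hcon
    obtain ⟨a, ha, b, hb, hab⟩ := hcon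
    apply hx0Z
    apply Cfsg.Agent.Helper49.Hig.sub_center S (Subgroup.centralizer (M0 P : Set P))
      ((center_le_M0).trans hle) hξC ⟨a, ha, b, hb, hab⟩ x0 (hle hx0M)
    intro y hy
    exact (Subgroup.mem_centralizer_iff.mp hy) x0 hx0M
  refine ⟨{
    M := M0 P
    center_le := center_le_M0
    ξ_mem := fun m hm => M0_map _ hm
    sq_mem := fun m hm => hm.2.2
    comm_mem := fun m hm g => hm.1 g
    sq_surj := hsurj
    le_cent := hle
    cent_comm := hcomm
    sq_mem_cent := hsqc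
    comm_mem_cent := hcc
    mem_of_pow_four := ?_ }⟩
  intro c hc hc4
  have hcc2 : (c * c) * (c * c) = 1 := by
    rw [← hc4, show (4 : ℕ) = 2 + 2 from rfl, pow_add, pow_two]
  have hccZ : c * c ∈ Subgroup.center P := (S.sq_one_iff _).mp hcc2
  obtain ⟨m, hm, hmm⟩ := hsurj _ hccZ
  have hcm : m * c = c * m := (Subgroup.mem_centralizer_iff.mp hc) m hm
  have h1 : (c * m⁻¹) * (c * m⁻¹) = 1 := by
    have hcm' : m⁻¹ * c = c * m⁻¹ := by
      calc m⁻¹ * c = m⁻¹ * (c * m) * m⁻¹ := by group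
        _ = m⁻¹ * (m * c) * m⁻¹ := by rw [hcm]
        _ = c * m⁻¹ := by group
    calc (c * m⁻¹) * (c * m⁻¹) = c * (m⁻¹ * c) * m⁻¹ := by group
      _ = c * (c * m⁻¹) * m⁻¹ := by rw [hcm']
      _ = (c * c) * (m * m)⁻¹ := by group
      _ = 1 := by rw [hmm, mul_inv_cancel]
  have h2 : c * m⁻¹ ∈ M0 P := center_le_M0 ((S.sq_one_iff _).mp h1)
  have : c = (c * m⁻¹) * m := by group
  rw [this]
  exact Subgroup.mul_mem _ h2 hm

end Main

end Cfsg.Agent.Helper1.Hig
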