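import Mathlib
import Cfsg.Prelude.Def_LieRecognition
import Cfsg.Agent.Lib.Helper1.Hig.Defs
import Cfsg.Agent.Lib.Helper49.HigS0
import Cfsg.Agent.Lib.Helper26.HigD2
import Cfsg.Agent.Lib.Helper88.HigD3
import Cfsg.Agent.Lib.Helper46.HigD4
import Cfsg.Agent.Lib.Helper69.HigE3b
import Cfsg.Agent.Lib.Helper19.HigE3a
import Cfsg.Agent.Lib.Helper1.Hig.D1

set_option autoImplicit false

/-!
# Higman's theorem on Suzuki 2-groups: assembly
-/

namespace Cfsg.Agent.Helper1.Hig

open scoped commutatorElement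

/-- `P' ≤ Z(P)` for a Suzuki 2-group. -/
theorem comm_mem_center {P : Type*} [Group P] (hP : Cfsg.IsSuzukiTwoGroup P) :
    ∀ a b : P, ⁅a, b⁆ ∈ Subgroup.center P := by
  by_contra h
  push Not at h
  obtain ⟨a, b, hab⟩ := h
  obtain ⟨S⟩ := Cfsg.Agent.Helper49.Hig.exists_sz hP
  obtain ⟨C⟩ := exists_cfg' S ⟨a, b, hab⟩
  obtain ⟨F, _, _, _, hq, ⟨Φ⟩⟩ := Cfsg.Agent.Helper26.Hig.exists_fmap S C
  by_cases h8 : ∃ c ∈ Subgroup.centralizer (C.M : Set P), c ^ 4 ≠ 1
  · exact Cfsg.Agent.Helper88.Hig.case_exp8 S C hq Φ h8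
  · push Not at h8
    exact Cfsg.Agent.Helper46.Hig.case_exp4 S C hq Φ h8 ⟨a, b, hab⟩

/-- squares are central -/
theorem sq_mem_center {P : Type*} [Group P] (S : SuzNF P)
    (hcomm : ∀ a b : P, ⁅a, b⁆ ∈ Subgroup.center P) (x : P) : x * x ∈ Subgroup.center P := by
  rw [Subgroup.mem_center_iff]
  intro g
  have hc : ⁅g, x⁆ ∈ Subgroup.center P := hcomm g x
  have hc2 : ⁅g, x⁆ * ⁅g, x⁆ = 1 := (S.sq_one_iff _).mpr hc
  have hcx : ∀ y : P, y * ⁅g, x⁆ = ⁅g, x⁆ * y := Subgroup.mem_center_iff.mp hc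
  have h1 : g * x = ⁅g, x⁆ * x * g := by
    rw [commutatorElement_def]; group
  calc g * (x * x) = (g * x) * x := by group
    _ = ⁅g, x⁆ * x * g * x := by rw [h1]
    _ = ⁅g, x⁆ * x * (g * x) := by group
    _ = ⁅g, x⁆ * x * (⁅g, x⁆ * x * g) := by rw [← h1]
    _ = ⁅g, x⁆ * (x * ⁅g, x⁆) * x * g := by group
    _ = ⁅g, x⁆ * (⁅g, x⁆ * x) * x * g := by rw [hcx x]
    _ = (⁅g, x⁆ * ⁅g, x⁆) * x * x * g := by group
    _ = x * x * g := by rw [hc2, one_mul]

/-- the statement of S1138 -/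
theorem higman {P : Type*} [Group P] (hP : Cfsg.IsSuzukiTwoGroup P) :
    (∀ x : P, x * x ∈ Subgroup.center P) ∧
      (∀ x y : P, x⁻¹ * y⁻¹ * x * y ∈ Subgroup.center P) ∧
      (Nat.card P = Nat.card (Subgroup.center P) ^ 2 ∨
        Nat.card P = Nat.card (Subgroup.center P) ^ 3) ∧
      Monoid.exponent P = 4 := by
  obtain ⟨S⟩ := Cfsg.Agent.Helper49.Hig.exists_sz hP
  have hcomm := comm_mem_center hP
  have hsq := sq_mem_center S hcomm
  have : Finite P := S.fin
  obtain ⟨-, -, ⟨u, v, huv⟩, -, -⟩ := hP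
  have hpow4 : ∀ x : P, x ^ 4 = 1 := by
    intro x
    have h1 : (x * x) * (x * x) = 1 := (S.sq_one_iff _).mpr (hsq x)
    calc x ^ 4 = (x * x) * (x * x) := by
          rw [show (4 : ℕ) = 2 + 2 from rfl, pow_add, pow_two]
      _ = 1 := h1
  refine ⟨hsq, ?_, ?_, ?_⟩
  · intro x y
    have := hcomm x⁻¹ y⁻¹
    rw [commutatorElement_def] at this
    simpa using this
  · obtain ⟨k, hk⟩ := Cfsg.Agent.Helper69.Hig.card_eq_pow S
    have hcw := Cfsg.Agent.Helper19.Hig.cw_bound S.n S.card_center hsq hcomm (fun x hx => (S.sq_one_iff x).mp hx)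
      (fun z hz => (S.sq_one_iff z).mpr hz)
    have hn0 : 0 < S.n := by have := S.hn; omega
    -- k ≤ 3
    have hk3 : k ≤ 3 := by
      rw [hk, ← pow_add] at hcw
      have h1 : S.n * k ≤ S.n + 2 * S.n := (Nat.pow_le_pow_iff_right (by norm_num)).mp hcw
      have h2 : S.n * k ≤ S.n * 3 := by omega
      exact Nat.le_of_mul_le_mul_left h2 hn0
    -- k ≥ 2
    have hk2 : 2 ≤ k := by
      by_contra hlt
      push Not at hlt
      have hle : Nat.card P ≤ Nat.card (Subgroup.center P) := by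
        rw [hk, S.card_center]
        apply Nat.pow_le_pow_right (by norm_num)
        calc S.n * k ≤ S.n * 1 := Nat.mul_le_mul_left _ (by omega)
          _ = S.n := Nat.mul_one _
      have htop : Subgroup.center P = ⊤ := by
        apply Subgroup.eq_top_of_le_card
        exact hle
      apply huv
      have hu : u ∈ Subgroup.center P := by rw [htop]; trivial
      exact ((Subgroup.mem_center_iff.mp hu) v).symm
    rw [S.card_center, hk]
    have : k = 2 ∨ k = 3 := by omega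
    rcases this with rfl | rfl
    · left; rw [pow_mul]
    · right; rw [pow_mul]
  · have hdvd : Monoid.exponent P ∣ 4 := Monoid.exponent_dvd_of_forall_pow_eq_one hpow4
    have hne2 : ¬ Monoid.exponent P ∣ 2 := by
      intro h2
      apply huv
      have hall : ∀ x : P, x ∈ Subgroup.center P := by
        intro x
        apply (S.sq_one_iff x).mp
        have : x ^ 2 = 1 := by
          obtain ⟨m, hm⟩ := h2
          rw [hm, pow_mul, Monoid.pow_exponent_eq_one, one_pow]
        rw [← pow_two]; exact this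
      exact ((Subgroup.mem_center_iff.mp (hall u)) v).symm
    have h4 : Monoid.exponent P ∈ Nat.divisors 4 := Nat.mem_divisors.mpr ⟨hdvd, by norm_num⟩
    have hd : Nat.divisors 4 = {1, 2, 4} := by decide
    rw [hd] at h4
    simp only [Finset.mem_insert, Finset.mem_singleton] at h4
    rcases h4 with h | h | h
    · exact absurd (by rw [h]; exact one_dvd 2) hne2
    · exact absurd (by rw [h]) hne2
    · exact h

end Cfsg.Agent.Helper1.Hig
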